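import Groth.Prelude.Def_AlgEqCyc
import Mathlib

/-!
# The graph of a closed immersion of a curve as a family of points
-/

set_option autoImplicit false
set_option linter.style.haveILetI false
set_option backward.isDefEq.respectTransparency false
set_option backward.isDefEq.respectTransparency.types false

open AlgebraicGeometry CategoryTheory CategoryTheory.Limits

namespace Groth.Agent.DiagFamily.Graph

universe u

variable {k : Type u} [Field k] {X C : Scheme.{u}} (p : X ⟶ Spec (CommRingCat.of k))
  (q : C ⟶ Spec (CommRingCat.of k)) (ι : C ⟶ X) (hι : ι ≫ p = q)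

/-- The graph of `ι`. -/
noncomputable def graph : C ⟶ pullback p q := pullback.lift ι (𝟙 C) (by rw [hι, Category.id_comp])

local notation "Δ" => graph p q ι hι

theorem isClosedImmersion_graph [IsSeparated q] [IsClosedImmersion ι] : IsClosedImmersion (Δ) := by
  haveI : IsSeparated (pullback.fst p q) := MorphismProperty.pullback_fst _ _ inferInstance
  haveI : IsClosedImmersion (Δ ≫ pullback.fst p q) := by rw [graph, pullback.lift_fst]; infer_instance
  exact IsClosedImmersion.of_comp (Δ) (pullback.fst p q)

theorem diag_snd_apply (z : C) : pullback.snd p q (Δ z) = z := by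
  rw [← Scheme.Hom.comp_apply, graph, pullback.lift_snd]; rfl

theorem diag_fst_apply (z : C) : pullback.fst p q (Δ z) = ι z := by
  rw [← Scheme.Hom.comp_apply, graph, pullback.lift_fst]

theorem slice_pt (t : Spec (CommRingCat.of k) ⟶ C) (ht : t ≫ q = 𝟙 _) :
    AlgEqCyc.slice p q t ht (ι (t (IsLocalRing.closedPoint k))) = Δ (t (IsLocalRing.closedPoint k)) := by
  have h : (t ≫ ι) ≫ AlgEqCyc.slice p q t ht = t ≫ Δ := by
    apply pullback.hom_ext
    · simp [AlgEqCyc.slice, graph]
    · simp only [AlgEqCyc.slice, graph, Category.assoc, pullback.lift_snd, Category.comp_id]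
      rw [← Category.assoc ι p t, hι, ← Category.assoc t q t, ht, Category.id_comp]
  exact congrArg (fun φ : Spec (CommRingCat.of k) ⟶ pullback p q => φ (IsLocalRing.closedPoint k)) h

variable [IsSeparated q] [IsIntegral C] [IsClosedImmersion ι]

theorem specializes_slice_iff (t : Spec (CommRingCat.of k) ⟶ C) (ht : t ≫ q = 𝟙 _) (x : X) :
    Δ (genericPoint C) ⤳ AlgEqCyc.slice p q t ht x ↔ x = ι (t (IsLocalRing.closedPoint k)) := by
  haveI := isClosedImmersion_graph p q ι hι
  constructor
  · intro h
    obtain ⟨z, hz⟩ := h.mem_closed (Δ).isClosedEmbedding.isClosed_range ⟨_, rfl⟩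
    have h1 : pullback.fst p q (AlgEqCyc.slice p q t ht x) = x := by
      rw [← Scheme.Hom.comp_apply, AlgEqCyc.slice, pullback.lift_fst]; rfl
    have h2 : pullback.snd p q (AlgEqCyc.slice p q t ht x) = t (p x) := by
      rw [← Scheme.Hom.comp_apply, AlgEqCyc.slice, pullback.lift_snd]; rfl
    rw [← hz, diag_fst_apply] at h1
    rw [← hz, diag_snd_apply] at h2
    rw [← h1, h2]
    congr 2
    exact Subsingleton.elim (α := PrimeSpectrum k) _ _
  · rintro rfl
    rw [slice_pt]
    exact (genericPoint_specializes _).map (Δ).continuous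

theorem fibreMult_diag (v : ↥(pullback p q)) (h : Δ (genericPoint C) ⤳ v) :
    AlgEqCyc.fibreMult (pullback.snd p q) v (Δ (genericPoint C)) h = 1 := by
  haveI := isClosedImmersion_graph p q ι hι
  obtain ⟨z, rfl⟩ := h.mem_closed (Δ).isClosedEmbedding.isClosed_range ⟨_, rfl⟩
  let g := pullback.snd p q
  have hcomp : Δ ≫ g = 𝟙 C := pullback.lift_snd _ _ _
  let δ := (Δ).stalkMap z
  let γ := g.stalkMap (Δ z)
  have hδ : Function.Surjective δ := (Δ).stalkMap_surjective z
  -- the kernel of restriction to the generic point of the diagonal contains the kernel of `δ`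
  have hK : ∀ a, δ a = 0 → a ∈ RingHom.ker (Cyc.specMap (Δ z) (Δ (genericPoint C)) h) := fun a ha => by
    have h1 : (Δ).stalkMap (genericPoint C) ((pullback p q).presheaf.stalkSpecializes h a) = 0 := by
      have h2 := congr($(Scheme.Hom.stalkSpecializes_stalkMap (Δ) (genericPoint C) z (genericPoint_specializes z)) a)
      refine Eq.trans h2 ?_
      show C.presheaf.stalkSpecializes (genericPoint_specializes z) (δ a) = 0
      rw [ha, map_zero]
    rw [RingHom.mem_ker]
    show (pullback p q).residue (Δ (genericPoint C)) _ = 0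
    have h3 := congr($(Scheme.residue_residueFieldMap (Δ) (genericPoint C))
      ((pullback p q).presheaf.stalkSpecializes h a))
    refine ((Δ).residueFieldMap (genericPoint C)).hom.injective ?_
    rw [map_zero]
    refine h3.trans ?_
    exact (congrArg (C.residue _).hom h1).trans (map_zero _)
  -- `δ ∘ γ` is the identification of the two local rings
  have hsurj : Function.Surjective fun b => δ (γ b) := by
    have h1 : γ ≫ δ = C.presheaf.stalkSpecializes (specializes_of_eq (diag_snd_apply p q ι hι z).symm) := by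
      rw [show γ ≫ δ = ((Δ) ≫ g).stalkMap z from (Scheme.Hom.stalkMap_comp (Δ) g z).symm,
        Scheme.Hom.stalkMap_congr_hom _ _ hcomp, Scheme.Hom.stalkMap_id]
      exact Category.comp_id _
    haveI : IsIso (C.presheaf.stalkSpecializes (specializes_of_eq (diag_snd_apply p q ι hι z).symm)) :=
      ⟨C.presheaf.stalkSpecializes (specializes_of_eq (diag_snd_apply p q ι hι z)), by simp, by simp⟩
    intro b
    obtain ⟨a, ha⟩ := (ConcreteCategory.bijective_of_isIso
      (C.presheaf.stalkSpecializes (specializes_of_eq (diag_snd_apply p q ι hι z).symm))).2 b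
    exact ⟨a, (congr($h1 a)).trans ha⟩
  let K := RingHom.ker (Cyc.specMap (Δ z) (Δ (genericPoint C)) h)
  let J := (IsLocalRing.maximalIdeal (C.presheaf.stalk (g (Δ z)))).map ((Ideal.Quotient.mk K).comp γ.hom)
  have hKm : K ≤ IsLocalRing.maximalIdeal ((pullback p q).presheaf.stalk (Δ z)) :=
    IsLocalRing.le_maximalIdeal (RingHom.ker_ne_top _)
  have hJ : (J.comap (Ideal.Quotient.mk K)) = IsLocalRing.maximalIdeal ((pullback p q).presheaf.stalk (Δ z)) := by
    refine le_antisymm (IsLocalRing.le_maximalIdeal fun htop => ?_) fun a ha => ?_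
    · have h1 : J = ⊤ := by
        have := congrArg (Ideal.map (Ideal.Quotient.mk K)) htop
        rwa [Ideal.map_comap_of_surjective _ Ideal.Quotient.mk_surjective, Ideal.map_top] at this
      have h2 : J ≤ (IsLocalRing.maximalIdeal ((pullback p q).presheaf.stalk (Δ z))).map (Ideal.Quotient.mk K) := by
        rw [Ideal.map_le_iff_le_comap]
        intro b hb
        exact Ideal.mem_map_of_mem _ ((IsLocalRing.mem_maximalIdeal _).2 fun hu => hb (isUnit_of_map_unit γ.hom b hu))
      rw [h1, top_le_iff] at h2
      have h3 := congrArg (Ideal.comap (Ideal.Quotient.mk K)) h2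
      rw [Ideal.comap_map_of_surjective _ Ideal.Quotient.mk_surjective, Ideal.comap_top,
        ← RingHom.ker_eq_comap_bot, Ideal.mk_ker, sup_eq_left.2 hKm] at h3
      exact IsLocalRing.maximalIdeal.isMaximal _ |>.ne_top h3
    · obtain ⟨b, hb⟩ := hsurj (δ a)
      have hbm : b ∈ IsLocalRing.maximalIdeal (C.presheaf.stalk (g (Δ z))) := (IsLocalRing.mem_maximalIdeal _).2 fun hu => by
        have h4 : IsUnit (δ a) := hb ▸ (hu.map γ.hom).map δ.hom
        exact (IsLocalRing.mem_maximalIdeal _).1 ha (isUnit_of_map_unit δ.hom a h4)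
      show Ideal.Quotient.mk K a ∈ J
      rw [show Ideal.Quotient.mk K a = Ideal.Quotient.mk K (γ b) from Ideal.Quotient.eq.2 (hK _ (by
        rw [map_sub, ← hb, sub_self]))]
      exact Ideal.mem_map_of_mem _ hbm
  have hsimple : IsSimpleModule ((pullback p q).presheaf.stalk (Δ z))
      (Cyc.LocQuot (Δ z) (Δ (genericPoint C)) h ⧸ J) := by
    let π : (pullback p q).presheaf.stalk (Δ z) →ₗ[(pullback p q).presheaf.stalk (Δ z)]
        (Cyc.LocQuot (Δ z) (Δ (genericPoint C)) h ⧸ J) :=
      ((Ideal.Quotient.mkₐ _ J).toLinearMap).comp (Ideal.Quotient.mkₐ _ K).toLinearMap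
    have hπ : Function.Surjective π := Ideal.Quotient.mk_surjective.comp Ideal.Quotient.mk_surjective
    have hker : LinearMap.ker π = IsLocalRing.maximalIdeal ((pullback p q).presheaf.stalk (Δ z)) := by
      rw [← hJ]
      ext a
      exact Ideal.Quotient.eq_zero_iff_mem
    exact isSimpleModule_iff_quot_maximal.2 ⟨_, IsLocalRing.maximalIdeal.isMaximal _,
      ⟨((Submodule.quotEquivOfEq _ _ hker.symm).trans (π.quotKerEquivOfSurjective hπ)).symm⟩⟩
  unfold AlgEqCyc.fibreMult
  show (Module.length _ (Cyc.LocQuot (Δ z) (Δ (genericPoint C)) h ⧸ J)).toNat = 1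
  rw [Module.length_eq_one_iff.2 hsimple]
  rfl

include hι in
theorem isElemAlgTriv_single_sub_single [DecidableEq ↥X] (hs : Smooth q)
    (hp : Neron.IsProjectiveOver k (Over.mk q)) (hd : topologicalKrullDim ↥C = 1)
    (P₁ P₂ : Spec (CommRingCat.of k) ⟶ C) (h₁ : P₁ ≫ q = 𝟙 _) (h₂ : P₂ ≫ q = 𝟙 _) :
    AlgEqCyc.IsElemAlgTriv p
      (Function.locallyFinsuppWithin.single (ι (P₁ (IsLocalRing.closedPoint k))) (1 : ℤ) -
        Function.locallyFinsuppWithin.single (ι (P₂ (IsLocalRing.closedPoint k))) (1 : ℤ)) := by
  classical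
  refine ⟨C, q, hs, hp, inferInstance, hd,
    Function.locallyFinsuppWithin.single (Δ (genericPoint C)) (1 : ℤ), fun w hw => ?_, P₁, P₂, h₁, h₂, fun x => ?_⟩
  · rw [Function.locallyFinsuppWithin.single_apply] at hw
    obtain rfl : w = Δ (genericPoint C) := by
      by_contra hne
      simp [hne] at hw
    rw [diag_snd_apply]
    exact genericPoint_spec C
  · have key : ∀ (t : Spec (CommRingCat.of k) ⟶ C) (ht : t ≫ q = 𝟙 _),
        AlgEqCyc.fibreFun p q (Function.locallyFinsuppWithin.single (Δ (genericPoint C)) (1 : ℤ)) t ht x =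
          Function.locallyFinsuppWithin.single (ι (t (IsLocalRing.closedPoint k))) (1 : ℤ) x := by
      intro t ht
      rw [Function.locallyFinsuppWithin.single_apply]
      unfold AlgEqCyc.fibreFun
      by_cases hx : x = ι (t (IsLocalRing.closedPoint k))
      · rw [if_pos hx, finsum_eq_single _ ⟨Δ (genericPoint C), by simp, (specializes_slice_iff p q ι hι t ht x).2 hx⟩]
        · simp [fibreMult_diag p q ι hι _ ((specializes_slice_iff p q ι hι t ht x).2 hx)]
        · rintro ⟨w, hw, hsp⟩ hne
          rw [Function.locallyFinsuppWithin.single_apply] at hw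
          refine absurd (Subtype.ext ?_) hne
          show w = _
          by_contra hne'
          simp [hne'] at hw
      · rw [if_neg hx]
        haveI : IsEmpty {w : ↥(pullback p q) // Function.locallyFinsuppWithin.single (Δ (genericPoint C)) (1 : ℤ) w ≠ 0 ∧
            w ⤳ AlgEqCyc.slice p q t ht x} := ⟨fun ⟨w, hw, hsp⟩ => by
          rw [Function.locallyFinsuppWithin.single_apply] at hw
          obtain rfl : w = Δ (genericPoint C) := by
            by_contra hne
            simp [hne] at hw
          exact hx ((specializes_slice_iff p q ι hι t ht x).1 hsp)⟩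
        exact finsum_of_isEmpty _
    rw [key, key]
    rfl

end Groth.Agent.DiagFamily.Graph
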